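import Groth.Agent.Lib.FlatH4.FibreCritScheme
import Groth.Agent.Lib.FlatH4.FlatLocusScheme
import Groth.Agent.S2156
import Mathlib.RingTheory.AdicCompletion.LocalRing

/-!
# Flatness and smoothness near the special fibre over a completion
-/

set_option autoImplicit false
set_option linter.style.haveILetI false
set_option backward.isDefEq.respectTransparency false

universe u

open CategoryTheory Limits AlgebraicGeometry TopologicalSpace TensorProduct

namespace Groth.Agent.FlatAdic4

theorem of_isPullback_comp {P : MorphismProperty Scheme.{u}} [P.IsStableUnderBaseChange] {X Y Z W T : Scheme.{u}}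
    {h : X ⟶ Y} {q : Z ⟶ Y} {e : W ⟶ Z} {a' : T ⟶ X} {b' : T ⟶ W} (H : P (pullback.snd h q))
    (sq : IsPullback a' b' h (e ≫ q)) : P b' := by
  let l : T ⟶ pullback h q := pullback.lift a' (b' ≫ e) (by rw [sq.w, Category.assoc])
  have hl : l ≫ pullback.fst h q = a' := pullback.lift_fst _ _ _
  have s : IsPullback (l ≫ pullback.fst h q) b' h (e ≫ q) := by rw [hl]; exact sq
  exact MorphismProperty.of_isPullback (IsPullback.of_right s (pullback.lift_snd _ _ _) (IsPullback.of_hasPullback h q)) H

variable (V : Type u) [CommRing V] [IsDomain V] [IsDiscreteValuationRing V]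
  (A : Type u) [CommRing A] [Algebra V A]

/-- The ideal of the special fibre. -/
noncomputable abbrev I : Ideal A := (IsLocalRing.maximalIdeal V).map (algebraMap V A)

/-- The base. -/
noncomputable abbrev g : Spec (.of A) ⟶ Spec (.of V) := Spec.map (CommRingCat.ofHom (algebraMap V A))

/-- The special fibre. -/
noncomputable abbrev q : Spec (.of (A ⧸ I V A)) ⟶ Spec (.of A) := Spec.map (CommRingCat.ofHom (Ideal.Quotient.mk (I V A)))

/-- The completion. -/
noncomputable abbrev c : Spec (.of (AdicCompletion (I V A) A)) ⟶ Spec (.of A) :=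
  Spec.map (CommRingCat.ofHom (algebraMap A (AdicCompletion (I V A) A)))

variable {V A} {X : Scheme.{u}} (h : X ⟶ Spec (.of A))

theorem exists_preimage_q (x : X) (hx : I V A ≤ (h x).asIdeal) : ∃ z, q V A z = h x := by
  have : h x ∈ PrimeSpectrum.zeroLocus (I V A : Set A) := hx
  rw [← Ideal.mk_ker (I := I V A), ← range_comap_of_surjective _ _ Ideal.Quotient.mk_surjective] at this
  exact this

theorem flat_near [Algebra.Smooth V A] [LocallyOfFinitePresentation h]
    (hfl : Flat (h ≫ g V A)) (hq : Flat (pullback.snd h (q V A))) (x : X) (hx : I V A ≤ (h x).asIdeal) :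
    (h.stalkMap x).hom.Flat := by
  letI := Ideal.Quotient.field (IsLocalRing.maximalIdeal V)
  let k := V ⧸ IsLocalRing.maximalIdeal V
  let a : Spec (.of k) ⟶ Spec (.of V) := Spec.map (CommRingCat.ofHom (Ideal.Quotient.mk (IsLocalRing.maximalIdeal V)))
  haveI : LocallyOfFinitePresentation (g V A) := (HasRingHomProperty.Spec_iff (P := @LocallyOfFinitePresentation)).2
    (RingHom.finitePresentation_algebraMap.2 inferInstance)
  haveI := hfl
  obtain ⟨y, hy⟩ : ∃ y, a y = (h ≫ g V A) x := by
    refine ⟨⟨⊥, Ideal.bot_prime⟩, PrimeSpectrum.ext ?_⟩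
    change Ideal.comap (Ideal.Quotient.mk (IsLocalRing.maximalIdeal V)) ⊥ = Ideal.comap (algebraMap V A) (h x).asIdeal
    rw [← RingHom.ker_eq_comap_bot, Ideal.mk_ker]
    exact ((IsLocalRing.maximalIdeal.isMaximal V).eq_of_le
      ((Ideal.comap_isPrime _ _).ne_top) (Ideal.map_le_iff_le_comap.1 hx))
  obtain ⟨z, -, hz⟩ := Scheme.Pullback.exists_preimage_pullback (f := a) (g := h ≫ g V A) y x hy
  have key : Flat (FlatH4.fibreMapAt h (g V A) a) := by
    have s : IsPullback (FlatH4.fibreMapAt h (g V A) a ≫ pullback.fst a (g V A)) (pullback.snd a (h ≫ g V A)) a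
        (h ≫ g V A) := by
      rw [show FlatH4.fibreMapAt h (g V A) a ≫ pullback.fst a (g V A) = pullback.fst a (h ≫ g V A) by
        simp [FlatH4.fibreMapAt, pullback.lift_fst]]
      exact IsPullback.of_hasPullback _ _
    have sq := (IsPullback.of_right s (by simp [FlatH4.fibreMapAt, pullback.lift_snd])
      (IsPullback.of_hasPullback a (g V A))).flip
    let m : A →+* k ⊗[V] A := (Algebra.TensorProduct.includeRight (R := V) (A := k) (B := A)).toRingHom
    have hm : ∀ b ∈ I V A, m b = 0 := fun b hb => by
      refine (Ideal.map_le_iff_le_comap (K := RingHom.ker m)).2 (fun v hv => ?_) hb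
      show (1 : k) ⊗ₜ[V] algebraMap V A v = 0
      rw [Algebra.algebraMap_eq_smul_one, TensorProduct.tmul_smul, TensorProduct.smul_tmul',
        Algebra.smul_def, mul_one, show algebraMap V k v = 0 from Ideal.Quotient.eq_zero_iff_mem.2 hv, TensorProduct.zero_tmul]
    have he : pullback.snd a (g V A) =
        ((pullbackSpecIso V k A).hom ≫ Spec.map (CommRingCat.ofHom (Ideal.Quotient.lift (I V A) m hm))) ≫ q V A := by
      rw [Category.assoc, ← Spec.map_comp, ← CommRingCat.ofHom_comp, Ideal.Quotient.lift_comp_mk]
      exact (pullbackSpecIso_hom_snd V k A).symm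
    rw [he] at sq
    exact of_isPullback_comp hq sq
  rw [← hz]
  exact FlatH4.flat_of_flat_fibreMapAt h (g V A) a z (Flat.stalkMap _ _) (Flat.stalkMap _ _)

/-- A property holding near the special fibre holds over the completion. -/
theorem of_near (P : MorphismProperty Scheme.{u}) [P.IsStableUnderBaseChange] [IsZariskiLocalAtSource P]
    [IsNoetherianRing A] [IsProper h] (F : X.Opens) (hF : ∀ x, I V A ≤ (h x).asIdeal → x ∈ F) (hP : P (F.ι ≫ h)) :
    P (pullback.snd h (c V A)) := by
  have hbc : P ((pullback.fst h (c V A) ⁻¹ᵁ F).ι ≫ pullback.snd h (c V A)) :=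
    MorphismProperty.of_isPullback ((isPullback_morphismRestrict (pullback.fst h (c V A)) F).paste_vert
      (IsPullback.of_hasPullback h (c V A))) hP
  haveI : CompactSpace ↥(pullback h (c V A)) := QuasiCompact.compactSpace_of_compactSpace (pullback.snd h (c V A))
  have htop : pullback.fst h (c V A) ⁻¹ᵁ F = ⊤ := by
    by_contra hne
    obtain ⟨z, hz, hcl⟩ := IsClosed.exists_closed_singleton (pullback.fst h (c V A) ⁻¹ᵁ F).2.isClosed_compl
      (Set.nonempty_compl.2 fun he => hne (Opens.ext he))
    refine hz (hF _ ?_)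
    have h1 : IsClosed {pullback.snd h (c V A) z} := by
      simpa using (pullback.snd h (c V A)).isClosedMap _ hcl
    rw [PrimeSpectrum.isClosed_singleton_iff_isMaximal] at h1
    have hI : (I V A).FG := IsNoetherian.noetherian _
    haveI := AdicCompletion.isAdicComplete_self (I V A) hI
    have h2 : (I V A).map (algebraMap A (AdicCompletion (I V A) A)) ≤ (pullback.snd h (c V A) z).asIdeal :=
      (IsAdicComplete.le_jacobson_bot _).trans (sInf_le ⟨bot_le, h1⟩)
    rw [show h (pullback.fst h (c V A) z) = c V A (pullback.snd h (c V A) z) by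
      rw [← Scheme.Hom.comp_apply, pullback.condition, Scheme.Hom.comp_apply]]
    exact Ideal.map_le_iff_le_comap.1 h2
  rw [htop] at hbc
  exact (P.cancel_left_of_respectsIso (Scheme.topIso _).hom _).1 (by rwa [Scheme.topIso_hom])

theorem smoothAt_near [Algebra.Smooth V A] [LocallyOfFinitePresentation h]
    (hfl : Flat (h ≫ g V A)) (hq : Smooth (pullback.snd h (q V A))) (x : X) (hx : I V A ≤ (h x).asIdeal) :
    x ∈ h.smoothLocus := by
  haveI := hq
  haveI : LocallyOfFinitePresentation (h.fiberToSpecResidueField (h x)) :=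
    MorphismProperty.pullback_snd _ _ inferInstance
  refine (S2156.result h x).2 ⟨flat_near h hfl inferInstance x hx, ?_⟩
  let j := (Spec (.of A)).fromSpecResidueField (h x)
  haveI : Surjective (pullback.fst j (q V A)) := ⟨fun t => by
    obtain ⟨z, hz⟩ := exists_preimage_q h x hx
    obtain ⟨w, hw, -⟩ := Scheme.Pullback.exists_preimage_pullback (f := j) (g := q V A) t z
      (by rw [hz]; exact (Scheme.fromSpecResidueField_apply _ _).trans rfl)
    exact ⟨w, hw⟩⟩
  haveI : IsClosedImmersion (q V A) := IsClosedImmersion.spec_of_surjective _ Ideal.Quotient.mk_surjective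
  haveI : IsClosedImmersion (pullback.fst j (q V A)) := MorphismProperty.pullback_fst _ _ inferInstance
  haveI : IsIso (pullback.fst j (q V A)) := isIso_of_isClosedImmersion_of_surjective _
  have hsm : Smooth (h.fiberToSpecResidueField (h x)) := by
    have sq : IsPullback (h.fiberι (h x)) (h.fiberToSpecResidueField (h x)) h
        ((inv (pullback.fst j (q V A)) ≫ pullback.snd j (q V A)) ≫ q V A) := by
      rw [Category.assoc, ← pullback.condition, IsIso.inv_hom_id_assoc]
      exact IsPullback.of_hasPullback h j
    exact of_isPullback_comp hq sq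
  haveI := hsm
  rw [Scheme.Hom.smoothLocus_eq_top]
  trivial

theorem flat_special_of_completion (P : MorphismProperty Scheme.{u}) [P.IsStableUnderBaseChange]
    (H : P (pullback.snd h (c V A))) : P (pullback.snd h (q V A)) := by
  have hc : q V A = Spec.map (CommRingCat.ofHom (AdicCompletion.evalOneₐ (I V A)).toRingHom) ≫ c V A := by
    rw [← Spec.map_comp, ← CommRingCat.ofHom_comp, AdicCompletion.evalOneₐ_comp_algebraMap_eq_mk]
  have sq := IsPullback.of_hasPullback h (q V A)
  exact of_isPullback_comp (h := h) (e := Spec.map (CommRingCat.ofHom (AdicCompletion.evalOneₐ (I V A)).toRingHom))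
    (b' := pullback.snd h (q V A)) (a' := pullback.fst h (q V A)) H (hc ▸ sq)

theorem flat_base_of_completion (h : X ⟶ Spec (.of A)) [Algebra.Smooth V A] [IsNoetherianRing A]
    (H : Flat (pullback.snd h (c V A))) : Flat (h ≫ g V A) := by
  haveI := H
  haveI : Flat (c V A) := (HasRingHomProperty.Spec_iff (P := @Flat)).2
    (RingHom.flat_algebraMap_iff.2 inferInstance)
  haveI : Flat (g V A) := (HasRingHomProperty.Spec_iff (P := @Flat)).2 (RingHom.flat_algebraMap_iff.2 inferInstance)
  haveI : Flat (pullback.fst h (c V A)) := MorphismProperty.pullback_fst _ _ inferInstance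
  refine Flat.of_stalkMap _ fun x => ?_
  by_cases hx : I V A ≤ (h x).asIdeal
  · obtain ⟨w, hw⟩ := exists_preimage_q h x hx
    obtain ⟨z, hz, -⟩ := Scheme.Pullback.exists_preimage_pullback (f := h) (g := c V A) x
      (Spec.map (CommRingCat.ofHom (AdicCompletion.evalOneₐ (I V A)).toRingHom) w) (by
        rw [← hw, ← Scheme.Hom.comp_apply, ← Spec.map_comp, ← CommRingCat.ofHom_comp,
          AdicCompletion.evalOneₐ_comp_algebraMap_eq_mk])
    haveI : Flat (pullback.fst h (c V A) ≫ h) := by rw [pullback.condition]; infer_instance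
    have h1 : (h.stalkMap x).hom.Flat := hz ▸ Descend.flat_stalkMap_of_comp (pullback.fst h (c V A)) h z
      (Flat.stalkMap _ _) (Flat.stalkMap _ _)
    rw [Scheme.Hom.stalkMap_comp, CommRingCat.hom_comp]
    exact RingHom.Flat.comp (Flat.stalkMap _ _) h1
  · have hp : ((h ≫ g V A) x).asIdeal = ⊥ := by
      by_contra hne
      haveI := ((h ≫ g V A) x).isPrime
      have := (Ideal.IsPrime.isMaximal (R := V) inferInstance hne)
      exact hx (Ideal.map_le_iff_le_comap.2 (IsLocalRing.eq_maximalIdeal this).ge)
    let p := (h ≫ g V A) x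
    letI : Algebra V ((Spec (.of V)).presheaf.stalk p) := StructureSheaf.stalkAlgebra _ p
    haveI : IsLocalization.AtPrime ((Spec (.of V)).presheaf.stalk p) p.asIdeal :=
      StructureSheaf.IsLocalization.to_stalk _ p
    haveI : IsFractionRing V ((Spec (.of V)).presheaf.stalk p) := by
      have hpc : p.asIdeal.primeCompl = nonZeroDivisors V := by
        ext v
        show v ∉ p.asIdeal ↔ v ∈ nonZeroDivisors V
        rw [show p.asIdeal = ⊥ from hp, Ideal.mem_bot, mem_nonZeroDivisors_iff_ne_zero]
      show IsLocalization (nonZeroDivisors V) _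
      rw [← hpc]
      infer_instance
    letI : Field ((Spec (.of V)).presheaf.stalk p) := IsFractionRing.toField V
    letI := ((h ≫ g V A).stalkMap x).hom.toAlgebra
    exact (inferInstance : Module.Flat ((Spec (.of V)).presheaf.stalk p) (X.presheaf.stalk x))

end Groth.Agent.FlatAdic4
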